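/-
Semistability and stability along a finite morphism onto a curve which is an isomorphism over a dense open.
-/
import Groth.Prelude.Def_Curv2
import Groth.Agent.StabLib.Sheaf
import Groth.Agent.EulerMult.Basic
import Groth.Agent.W7Hull.AmpleSurj
import Groth.Agent.CurveRR.GenusMap
import Groth.Agent.CurveRR.TmapR
import Groth.Agent.KFlat.PullTensor
import Groth.Agent.Intersect.Deg
import Groth.Agent.QC.Pullback
import Groth.Agent.DQPush.Affine
import Groth.Agent.FrobSplitEtale.Exact
import Groth.Agent.TMul.RelAmple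
import Groth.Agent.QC.Localisation

set_option autoImplicit false
set_option linter.style.haveILetI false
set_option linter.unusedSectionVars false
set_option backward.isDefEq.respectTransparency false
set_option backward.isDefEq.respectTransparency.types false
set_option maxHeartbeats 800000

universe u

open CategoryTheory CategoryTheory.Limits AlgebraicGeometry TopologicalSpace Opposite
open scoped Polynomial
open Groth.Agent.StabLib
open Groth.Agent.WeakAssLib (mgerm stalkHom stalkHom_germ)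
open StabCat (alpha)

noncomputable section

namespace Groth.Agent.TFCurvStab

section stalks

variable {X Y : Scheme.{u}} (ν : Y ⟶ X)

/-- Over a point with surjective stalk map the stalk of a pullback is the image of the stalk. -/
theorem kap_surjective (F : X.Modules) (y : Y) (hs : Function.Surjective (ν.stalkMap y).hom) :
    Function.Surjective (KFlat.kap ν y F) := by
  let M := (DerSch.stalkFunctor Y y).obj ((Scheme.Modules.pullback ν).obj F)
  let S : Submodule (Y.presheaf.stalk y) M :=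
    { carrier := {v | ∃ m, KFlat.kap ν y F m = v}
      add_mem' := by
        rintro _ _ ⟨m, rfl⟩ ⟨m', rfl⟩
        exact ⟨m + m', map_add _ m m'⟩
      zero_mem' := ⟨0, map_zero _⟩
      smul_mem' := by
        rintro r _ ⟨m, rfl⟩
        obtain ⟨r', rfl⟩ := hs r
        exact ⟨r' • m, KFlat.kap_smul ν y F r' m⟩ }
  let g : M ⟶ ModuleCat.of (Y.presheaf.stalk y) (M ⧸ S) := ModuleCat.ofHom S.mkQ
  have h0 : g = 0 := KFlat.pull_stalk_ext ν y F fun m =>
    (Submodule.Quotient.mk_eq_zero S).2 ⟨m, rfl⟩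
  intro v
  have hv : S.mkQ v = 0 := congr($(h0).hom v)
  exact (Submodule.Quotient.mk_eq_zero S).1 hv

/-- A quotient of a pullback is reached by the adjoint map at the points with singleton fibre. -/
theorem surjective_stalk_adjoint (hc : IsClosedMap ν) {F : X.Modules} {G : Y.Modules}
    (p : (Scheme.Modules.pullback ν).obj F ⟶ G) [Epi p] (hG : IsClosed (CohB1.support G)) (y : Y)
    (hy : ν ⁻¹' {ν y} ⊆ {y}) (hs : Function.Surjective (ν.stalkMap y).hom) :
    Function.Surjective (stalkHom ((Scheme.Modules.pullbackPushforwardAdjunction ν).unit.app F ≫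
      (Scheme.Modules.pushforward ν).map p) (ν y)) := by
  set h := (Scheme.Modules.pullbackPushforwardAdjunction ν).unit.app F ≫
      (Scheme.Modules.pushforward ν).map p
  have hb := Intersect.pushStalk_bijective_of_fibre ν hc G hG y fun z hz => hy hz.1
  intro w
  obtain ⟨v, hv⟩ := (ModuleCat.epi_iff_surjective _).1
    (inferInstance : Epi ((DerSch.stalkFunctor Y y).map p)) (KFlat.pushStalk ν y G w)
  obtain ⟨m, rfl⟩ := kap_surjective ν F y hs v
  obtain ⟨U, hU, s, rfl⟩ := F.presheaf.exists_germ_eq (x := ν y) m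
  refine ⟨mgerm F hU s, hb.1 ?_⟩
  refine ((congrArg (KFlat.pushStalk ν y G) (stalkHom_germ h hU s)).trans
    (Intersect.pushStalk_mgerm ν y G hU _)).trans (Eq.trans ?_ hv)
  refine Eq.trans ?_ (congrArg (stalkHom p y) (KFlat.kap_germ ν y F U hU s)).symm
  exact (stalkHom_germ p (show y ∈ ν ⁻¹ᵁ U from hU) _).symm

/-- The stalk maps are bijective over an open where the morphism is an isomorphism. -/
theorem bijective_stalkMap_of_iso (U : X.Opens) [IsIso (ν ∣_ U)] (y : Y) (hy : ν y ∈ U) :
    Function.Bijective (ν.stalkMap y).hom := by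
  let V := ν ⁻¹ᵁ U
  haveI : IsOpenImmersion (V.ι ≫ ν) := by
    rw [← morphismRestrict_ι ν U]; infer_instance
  let z : (V : Scheme.{u}) := ⟨y, hy⟩
  have h := Scheme.Hom.stalkMap_comp V.ι ν z
  haveI : IsIso (ν.stalkMap (V.ι z) ≫ V.ι.stalkMap z) := h ▸ inferInstance
  haveI : IsIso (ν.stalkMap (V.ι z)) := IsIso.of_isIso_comp_right _ (V.ι.stalkMap z)
  exact ConcreteCategory.bijective_of_isIso (ν.stalkMap (V.ι z))

/-- The adjoint of a quotient of a pullback is onto over the open of isomorphism. -/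
theorem support_coker_adjoint [IsFinite ν] (U : X.Opens) [IsIso (ν ∣_ U)] {F : X.Modules}
    {G : Y.Modules} (p : (Scheme.Modules.pullback ν).obj F ⟶ G) [Epi p] (hG : IsClosed (CohB1.support G)) :
    CohB1.support (cokernel ((Scheme.Modules.pullbackPushforwardAdjunction ν).unit.app F ≫
      (Scheme.Modules.pushforward ν).map p)) ⊆ ((U : Set X)ᶜ) := by
  intro x hx hxU
  obtain ⟨z, hz⟩ := (ν ∣_ U).surjective (⟨x, hxU⟩ : U)
  obtain rfl : ν z.1 = x := by
    have := congrArg Subtype.val hz
    rwa [morphismRestrict_base_coe] at this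
  refine CurveRR.notMem_support_coker _ _ (surjective_stalk_adjoint ν ν.isClosedMap p hG z.1 ?_
    (bijective_stalkMap_of_iso ν U z.1 hxU).2) hx
  intro w (hw : ν w = ν z.1)
  have hwU : w ∈ ν ⁻¹ᵁ U := show ν w ∈ U from hw ▸ hxU
  have := (ν ∣_ U).isOpenEmbedding.injective (a₁ := ⟨w, hwU⟩) (a₂ := z) (Subtype.ext (by
    rw [morphismRestrict_base_coe, morphismRestrict_base_coe]; exact hw))
  exact congrArg Subtype.val this

end stalks

variable (k : Type u) [Field k] {X : Scheme.{u}} [X.Over (Spec (CommRingCat.of k))]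
  [IsProper (X ↘ Spec (CommRingCat.of k))] {Y : Scheme.{u}} [Y.Over (Spec (CommRingCat.of k))]
  [IsProper (Y ↘ Spec (CommRingCat.of k))] (ν : Y ⟶ X) [IsFinite ν]
  (hν : ν ≫ (X ↘ Spec (CommRingCat.of k)) = Y ↘ Spec (CommRingCat.of k))
  {L : X.Modules} (hL : CohB1.IsAmple L)

include hν hL

/-- Hilbert polynomials are preserved by a finite push forward. -/
theorem hp_push {G : Y.Modules} (hG : Coh.IsCoh G) :
    Coh.IsCoh ((Scheme.Modules.pushforward ν).obj G) ∧
    Sh.hp k L ((Scheme.Modules.pushforward ν).obj G) =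
      Sh.hp k ((Scheme.Modules.pullback ν).obj L) G := by
  haveI := CurveRR.isNoetherian_of_proper k X
  haveI := hG.1
  have hpush : Coh.IsCoh ((Scheme.Modules.pushforward ν).obj G) := QC.isCoh_pushforward_of_isFinite ν hG.2
  refine ⟨hpush, eq_of_eval_nat fun m => ?_⟩
  rw [← Sh.isHilbPoly_hp k hL.1 hpush m,
    ← Sh.isHilbPoly_hp k (TMul.isAmple_pullback_of_isAffineHom ν hL).1 hG m]
  obtain ⟨a⟩ := TMul.nonempty_pullPowIso ν L m
  haveI := W7Hull.isIso_projMap_of_invertible ν G (TMul.isInvertible_tensorPow hL.1 m)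
  let T := CohB1.tensorMod G ((Scheme.Modules.pullback ν).obj (CohB1.tensorPow L m))
  have hT : Coh.IsQCoh T :=
    TMul.isQCoh_tensor (PicLoc.isInvertible_pullback ν (TMul.isInvertible_tensorPow hL.1 m)) (hF := hG.1)
  have h1 : Curv2.euler k X ((Scheme.Modules.pushforward ν).obj T) = Curv2.euler k Y T :=
    EulerMult.euler_push_affine ν hν T hT
  have h3 : Curv2.euler k Y T =
      Curv2.euler k Y (ShStab.twist Y ((Scheme.Modules.pullback ν).obj L) G m) :=
    CurveRR.euler_eq_of_iso (PicGrp.tensorModIso (Iso.refl G) a.symm)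
  rw [show Curv2.euler k X (ShStab.twist X L ((Scheme.Modules.pushforward ν).obj G) m) =
    Curv2.euler k X ((Scheme.Modules.pushforward ν).obj T) from
      CurveRR.euler_eq_of_iso (@asIso _ _ _ _ (CohFinite.projMap ν G (CohB1.tensorPow L m)) this),
    h1, h3]

local notation "I" => Sh.inv k hL
local notation "J" => Sh.inv k (TMul.isAmple_pullback_of_isAffineHom ν hL)
local notation "P" => Scheme.Modules.pushforward ν

omit hν hL in
theorem mono_push {A B : Y.Modules} (j : A ⟶ B) [Mono j] : Mono ((P).map j) := by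
  haveI : (P).IsRightAdjoint := (Scheme.Modules.pullbackPushforwardAdjunction ν).isRightAdjoint
  infer_instance

omit hν hL in
theorem isIso_of_push {A B : Y.Modules} (hA : Coh.IsCoh A) (hB : Coh.IsCoh B) (j : A ⟶ B) [Mono j]
    (h : IsIso ((P).map j)) : IsIso j := by
  have hC : Coh.IsCoh (cokernel j) := QC.isCoh_cokernel hA.1 hB j
  haveI := FrobSplitEtale.epi_push ν hB.1 hC.1 (cokernel.π j)
  have h0 : (P).map (cokernel.π j) = 0 := by
    rw [← cancel_epi ((P).map j), ← Functor.map_comp, cokernel.condition, Functor.map_zero, comp_zero]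
  have hz := DQPush.isZero_of_push ν hC.1 (IsZero.of_epi_eq_zero _ h0)
  haveI : Epi j := Preadditive.epi_of_cokernel_zero (hz.eq_of_tgt _ _)
  exact isIso_of_mono_of_epi j

/-- Data of the saturation of a submodule of a push forward. -/
theorem exists_saturation (hdim : topologicalKrullDim X ≤ 1) (U : X.Opens) (hU : Dense (U : Set X))
    [IsIso (ν ∣_ U)] {E : Y.Modules} (hE : Coh.IsCoh E) {F : X.Modules} (hF : Coh.IsCoh F)
    (ι : F ⟶ (P).obj E) [Mono ι] (h0 : ¬ IsZero F) :
    ∃ (G : Y.Modules) (j : G ⟶ E) (T : ℚ[X]), Mono j ∧ Coh.IsCoh G ∧ ¬ IsZero G ∧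
      (J).hp G = (I).hp F + T ∧ Nn T ∧ T.natDegree ≤ 0 ∧ (IsIso j → ¬ IsIso ι → Pos T) := by
  haveI := CurveRR.isNoetherian_of_proper k X
  haveI := CurveRR.isNoetherian_of_proper k Y
  let adj := Scheme.Modules.pullbackPushforwardAdjunction ν
  let φ : (Scheme.Modules.pullback ν).obj F ⟶ E := (adj.homEquiv F E).symm ι
  have hG : Coh.IsCoh (Abelian.image φ) :=
    QC.isCoh_kernel hE (QC.isCoh_cokernel (QC.isCoh_pullback ν hF).1 hE φ).1 (cokernel.π φ)
  let p := Abelian.factorThruImage φ
  let j := Abelian.image.ι φ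
  let h : F ⟶ (P).obj (Abelian.image φ) := adj.unit.app F ≫ (P).map p
  have hι : h ≫ (P).map j = ι := by
    show (adj.unit.app F ≫ (P).map p) ≫ (P).map j = ι
    rw [Category.assoc, ← Functor.map_comp, Abelian.image.fac]
    exact (adj.homEquiv_unit (f := φ)).symm.trans (Equiv.apply_symm_apply _ _)
  haveI : Mono h := by
    haveI : Mono (h ≫ (P).map j) := hι.symm ▸ inferInstance
    exact mono_of_mono h ((P).map j)
  obtain ⟨hpush, hhp⟩ := hp_push k ν hν hL hG
  have hC : Coh.IsCoh (cokernel h) := QC.isCoh_cokernel hF.1 hpush h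
  have hsupp : CohB1.support (cokernel h) ⊆ ((U : Set X)ᶜ) :=
    support_coker_adjoint ν U p (QC.isClosed_support hG.2)
  have hd : topologicalKrullDim (CohB1.support (cokernel h)) ≤ ((0 : ℕ) : WithBot ℕ∞) :=
    (Topology.IsInducing.topologicalKrullDim_le (Topology.IsEmbedding.inclusion hsupp).isInducing).trans
      (by simpa using CurveRR.dim_compl_le_zero hdim U hU)
  have hadd : (J).hp (Abelian.image φ) = (I).hp F + (I).hp (cokernel h) := by
    have hc := (I).hp_cokernel h hF hpush
    show Sh.hp k _ (Abelian.image φ) = Sh.hp k L F + (I).hp (cokernel h)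
    rw [← hhp]
    exact hc
  refine ⟨_, j, (I).hp (cokernel h), inferInstance, hG, fun hz => ?_, hadd, (I).nn_hp hC,
    Sh.natDegree_hp_le k hL.1 hC hd, fun hj hni => ?_⟩
  · exact h0 (IsZero.of_mono h ((P).map_isZero hz))
  · refine (I).hp_pos hC fun hz => hni ?_
    haveI : Epi h := Preadditive.epi_of_cokernel_zero (hz.eq_of_tgt _ _)
    haveI : IsIso h := isIso_of_mono_of_epi h
    rw [← hι]; infer_instance

omit hν hL in
theorem coeff_one_eq_zero {T : ℚ[X]} (hT : T.natDegree ≤ 0) : alpha 1 T = 0 := by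
  simp [alpha, Polynomial.coeff_eq_zero_of_natDegree_lt (show T.natDegree < 1 by omega)]

/-- Purity of the push forward. -/
theorem pure_push (hdim : topologicalKrullDim X ≤ 1) (U : X.Opens) (hU : Dense (U : Set X))
    [IsIso (ν ∣_ U)] {E : Y.Modules} (hE : Coh.IsCoh E) (hp : (J).Pure 1 E) :
    (I).Pure 1 ((P).obj E) := by
  intro F ι hι hF h0
  haveI := hι
  obtain ⟨G, j, T, hj, hG, hG0, hadd, hTn, hTd, -⟩ := exists_saturation k ν hν hL hdim U hU hE hF ι h0
  have ha := coeff_one_eq_zero hTd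
  have hpos : 0 < alpha 1 ((J).hp G) := hp.alpha_pos j hG hG0
  rw [hadd, alpha_add, ha, add_zero] at hpos
  obtain ⟨hpush, hhp⟩ := hp_push k ν hν hL hE
  refine le_antisymm (((I).deg_le_of_mono ι hF hpush).trans ?_)
    (Polynomial.le_natDegree_of_ne_zero ?_)
  · show (Sh.hp k L ((P).obj E)).natDegree ≤ 1
    rw [hhp]
    exact hp.deg_le hE
  · intro hz
    simp [alpha, hz] at hpos

omit hν hL in
theorem D_split {A T Q : ℚ[X]} (ha : alpha 1 T = 0) :
    D 1 A Q = D 1 (A + T) Q + alpha 1 Q • T := by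
  rw [D_add_left, D, D, ha, zero_smul, zero_sub]
  abel

theorem sso_iff (hdim : topologicalKrullDim X ≤ 1) (U : X.Opens) (hU : Dense (U : Set X))
    [IsIso (ν ∣_ U)] {E : Y.Modules} (hE : Coh.IsCoh E) :
    (J).SSo 1 E ↔ (I).SSo 1 ((P).obj E) := by
  obtain ⟨hpush, hhp⟩ := hp_push k ν hν hL hE
  constructor
  · intro h
    refine ⟨hpush, fun hz => h.2.1 (DQPush.isZero_of_push ν hE.1 hz),
      pure_push k ν hν hL hdim U hU hE h.2.2.1, fun F ι hι hF h0 hni => ?_⟩
    haveI := hι
    obtain ⟨G, j, T, hj, hG, hG0, hadd, hTn, hTd, -⟩ := exists_saturation k ν hν hL hdim U hU hE hF ι h0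
    show Nn (D 1 ((I).hp F) (Sh.hp k L ((P).obj E)))
    rw [hhp, D_split (coeff_one_eq_zero hTd), ← hadd]
    refine Nn.add ?_ (hTn.smul h.alpha_pos.le)
    exact h.nn_sub j hG
  · intro h
    refine ⟨hE, fun hz => h.2.1 ((P).map_isZero hz), fun G j hj hG h0 => ?_, fun G j hj hG h0 hni => ?_⟩
    all_goals
      haveI := hj
      haveI := mono_push ν j
      obtain ⟨hG', hhpG⟩ := hp_push k ν hν hL hG
      have h0' : ¬ IsZero ((P).obj G) := fun hz => h0 (DQPush.isZero_of_push ν hG.1 hz)
    · have := h.2.2.1 _ ((P).map j) inferInstance hG' h0'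
      show (Sh.hp k _ G).natDegree = 1
      rw [← hhpG]; exact this
    · have := h.2.2.2 _ ((P).map j) inferInstance hG' h0' fun hi => hni (isIso_of_push ν hG hE j hi)
      show Nn (D 1 (Sh.hp k _ G) (Sh.hp k _ E))
      rw [← hhpG, ← hhp]; exact this

theorem sto_iff (hdim : topologicalKrullDim X ≤ 1) (U : X.Opens) (hU : Dense (U : Set X))
    [IsIso (ν ∣_ U)] {E : Y.Modules} (hE : Coh.IsCoh E) :
    (J).Sto 1 E ↔ (I).Sto 1 ((P).obj E) := by
  obtain ⟨hpush, hhp⟩ := hp_push k ν hν hL hE
  constructor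
  · intro h
    refine ⟨hpush, fun hz => h.2.1 (DQPush.isZero_of_push ν hE.1 hz),
      pure_push k ν hν hL hdim U hU hE h.2.2.1, fun F ι hι hF h0 hni => ?_⟩
    haveI := hι
    obtain ⟨G, j, T, hj, hG, hG0, hadd, hTn, hTd, hTp⟩ := exists_saturation k ν hν hL hdim U hU hE hF ι h0
    show Pos (D 1 ((I).hp F) (Sh.hp k L ((P).obj E)))
    rw [hhp, D_split (coeff_one_eq_zero hTd), ← hadd]
    by_cases hji : IsIso j
    · have he : (J).hp G = (J).hp E := (J).hp_iso (asIso j) hG
      rw [he]
      refine Nn.add_pos (show Nn (D 1 ((J).hp E) ((J).hp E)) by rw [D_self]; exact nn_zero) ((hTp hji hni).smul h.ss.alpha_pos)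
    · exact (h.2.2.2 G j hj hG hG0 hji).add_nn (hTn.smul h.ss.alpha_pos.le)
  · intro h
    refine ⟨hE, fun hz => h.2.1 ((P).map_isZero hz), fun G j hj hG h0 => ?_, fun G j hj hG h0 hni => ?_⟩
    all_goals
      haveI := hj
      haveI := mono_push ν j
      obtain ⟨hG', hhpG⟩ := hp_push k ν hν hL hG
      have h0' : ¬ IsZero ((P).obj G) := fun hz => h0 (DQPush.isZero_of_push ν hG.1 hz)
    · have := h.2.2.1 _ ((P).map j) inferInstance hG' h0'
      show (Sh.hp k _ G).natDegree = 1
      rw [← hhpG]; exact this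
    · have := h.2.2.2 _ ((P).map j) inferInstance hG' h0' fun hi => hni (isIso_of_push ν hG hE j hi)
      show Pos (D 1 (Sh.hp k _ G) (Sh.hp k _ E))
      rw [← hhpG, ← hhp]; exact this

theorem isSemistable_iff (hdim : topologicalKrullDim X ≤ 1) (U : X.Opens) (hU : Dense (U : Set X))
    [IsIso (ν ∣_ U)] {E : Y.Modules} (hE : Coh.IsCoh E) :
    ShStab.IsSemistable k Y ((Scheme.Modules.pullback ν).obj L) E 1 ↔
      ShStab.IsSemistable k X L ((P).obj E) 1 := by
  rw [Sh.isSemistable_iff k (TMul.isAmple_pullback_of_isAffineHom ν hL), Sh.isSemistable_iff k hL]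
  exact sso_iff k ν hν hL hdim U hU hE

theorem isStable_iff (hdim : topologicalKrullDim X ≤ 1) (U : X.Opens) (hU : Dense (U : Set X))
    [IsIso (ν ∣_ U)] {E : Y.Modules} (hE : Coh.IsCoh E) :
    ShStab.IsStable k Y ((Scheme.Modules.pullback ν).obj L) E 1 ↔
      ShStab.IsStable k X L ((P).obj E) 1 := by
  rw [Sh.isStable_iff k (TMul.isAmple_pullback_of_isAffineHom ν hL), Sh.isStable_iff k hL]
  exact sto_iff k ν hν hL hdim U hU hE

end Groth.Agent.TFCurvStab

end
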